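import Groth.Agent.Comod.Along
import Groth.Prelude.Def_ComodTens
import Groth.Prelude.Def_ComodSub
import Mathlib
import Mathlib.RingTheory.Flat.TorsionFree
import Mathlib.RingTheory.HopfAlgebra.Quotient
import Mathlib.RingTheory.Bialgebra.Hom
import Mathlib.LinearAlgebra.Matrix.Determinant.Basic
import Mathlib.LinearAlgebra.Matrix.Adjugate
import Mathlib.LinearAlgebra.TensorProduct.Pi
import Mathlib.RingTheory.FiniteType
import Mathlib.RingTheory.TensorProduct.Maps

/-!
# Faithful corepresentations with a prescribed closed subgroup as stabilizer of the first column, over a PID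
-/

set_option autoImplicit false
set_option maxHeartbeats 1000000
universe u v w

open TensorProduct

namespace Groth.Agent.DvrCorep

open Groth.Agent.Comod

variable {R : Type u} [CommRing R] {A : Type u} [CommRing A] [HopfAlgebra R A]
variable {V : Type u} [AddCommGroup V] [Module R V]

theorem comul_coeff (c : HopfRep.Comod R A V) (ψ : V →ₗ[R] R) (v : V) :
    Coalgebra.comul (R := R) (slL ψ (c.coact v)) =
      slL ψ (TensorProduct.assoc R V A A (c.coact.rTensor A (c.coact v))) := by
  have h := LinearMap.congr_fun c.coassoc v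
  simp only [LinearMap.comp_apply, LinearEquiv.coe_coe] at h
  rw [h, slL_lTensor]

variable {S : Type u} [CommRing S] [Algebra R S]

/-- translation by a point, as an algebra map -/
noncomputable def transl (g : A →ₐ[R] S) : A →ₐ[R] A ⊗[R] S :=
  (Algebra.TensorProduct.map (AlgHom.id R A) g).comp (Bialgebra.comulAlgHom R A)

theorem transl_apply (g : A →ₐ[R] S) (x : A) :
    transl g x = g.toLinearMap.lTensor A (Coalgebra.comul (R := R) x) := rfl

theorem slL_counit_transl (g : A →ₐ[R] S) (x : A) : slL (Coalgebra.counit (R := R)) (transl g x) = g x := by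
  rw [transl_apply, slL_lTensor]
  simp [slL]

theorem transl_coeff (g : A →ₐ[R] S) (c : HopfRep.Comod R A V) (ψ : V →ₗ[R] R) (v : V) :
    transl g (slL ψ (c.coact v)) = (slL ψ ∘ₗ c.coact).rTensor S (g.toLinearMap.lTensor V (c.coact v)) := by
  rw [transl_apply, comul_coeff]
  generalize c.coact v = y
  induction y with
  | zero => simp
  | add y z hy hz => simp only [map_add, hy, hz]
  | tmul p q =>
    simp only [LinearMap.rTensor_tmul, LinearMap.lTensor_tmul, LinearMap.comp_apply]
    generalize c.coact p = x
    induction x with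
    | zero => simp
    | add y z hy hz => simp only [map_add, add_tmul, hy, hz]
    | tmul s t => simp [TensorProduct.smul_tmul']

theorem counit_coeff (c : HopfRep.Comod R A V) (ψ : V →ₗ[R] R) (v : V) :
    Coalgebra.counit (R := R) (slL ψ (c.coact v)) = ψ v := by
  have h := LinearMap.congr_fun c.counit_comp v
  simp only [LinearMap.comp_apply, LinearMap.flip_apply, TensorProduct.mk_apply] at h
  rw [← slL_lTensor, h, slL_tmul, smul_eq_mul, _root_.mul_one]

variable [Module.Flat R A]

/-- Serre: finite sets lie in finitely generated subcomodules -/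
theorem exists_finite_subcomod [IsNoetherianRing R] (c : HopfRep.Comod R A V) (s : Set V) (hs : s.Finite) :
    ∃ M : Submodule R V, Module.Finite R M ∧ s ⊆ M ∧ @HopfRep.IsSubcomod R A _ _ _ _ V _ _ c M := by
  obtain ⟨M0, hM0, hsub⟩ := TensorProduct.exists_finite_submodule_left_of_setFinite (c.coact '' s) (hs.image _)
  let F : V →ₗ[R] (V ⧸ M0) ⊗[R] A := M0.mkQ.rTensor A ∘ₗ c.coact
  have hker : ∀ {y : V ⊗[R] A}, y ∈ LinearMap.range (M0.subtype.rTensor A) → M0.mkQ.rTensor A y = 0 := by
    rintro _ ⟨y, rfl⟩
    rw [← LinearMap.comp_apply, ← LinearMap.rTensor_comp, LinearMap.exact_subtype_mkQ M0 |>.linearMap_comp_eq_zero]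
    simp
  have hle : LinearMap.ker F ≤ M0 := by
    intro x hx
    have hmem := ((rTensor_exact A (LinearMap.exact_subtype_mkQ M0) M0.mkQ_surjective) (c.coact x)).1 hx
    have h := slR_mem_of_mem_range hmem (Coalgebra.counit (R := R))
    have h2 := LinearMap.congr_fun c.counit_comp x
    simp only [LinearMap.comp_apply, LinearMap.flip_apply, TensorProduct.mk_apply] at h2
    rwa [slR, LinearMap.comp_apply, h2, LinearEquiv.coe_coe, TensorProduct.rid_tmul, one_smul] at h
  haveI : Module.Finite R M0 := hM0
  refine ⟨LinearMap.ker F, ?_, fun x hx => ?_, fun x hx => ?_⟩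
  · exact Module.Finite.of_injective (Submodule.inclusion hle) (Submodule.inclusion_injective _)
  · exact hker (hsub ⟨x, hx, rfl⟩)
  · have h0 : F.rTensor A (c.coact x) = 0 := by
      have hco := LinearMap.congr_fun c.coassoc x
      simp only [LinearMap.comp_apply, LinearEquiv.coe_coe] at hco
      apply (TensorProduct.assoc R (V ⧸ M0) A A).injective
      rw [map_zero]
      have e : ∀ y : V ⊗[R] A, TensorProduct.assoc R (V ⧸ M0) A A (F.rTensor A y) =
          M0.mkQ.rTensor (A ⊗[R] A) (TensorProduct.assoc R V A A (c.coact.rTensor A y)) := by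
        intro y
        induction y with
        | zero => simp
        | add y z hy hz => simp only [map_add, hy, hz]
        | tmul p q =>
          simp only [F, LinearMap.rTensor_tmul, LinearMap.comp_apply]
          generalize c.coact p = z
          induction z with
          | zero => simp
          | add y z hy hz => simp only [map_add, add_tmul, hy, hz]
          | tmul a b => simp
      rw [e, hco, ← LinearMap.comp_apply, LinearMap.rTensor_comp_lTensor, ← LinearMap.lTensor_comp_rTensor,
        LinearMap.comp_apply]
      rw [show M0.mkQ.rTensor A (c.coact x) = 0 from hx, map_zero]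
    exact (Module.Flat.rTensor_exact (R := R) A F.exact_subtype_ker_map _).1 h0

theorem exists_rTensor_ker [Module.Flat R S] {M : Type v} {P : Type w} [AddCommGroup M] [Module R M]
    [AddCommGroup P] [Module R P] (q : M →ₗ[R] P) (z : M ⊗[R] S) (hz : q.rTensor S z = 0) :
    ∃ y, (LinearMap.ker q).subtype.rTensor S y = z :=
  (Module.Flat.rTensor_exact (R := R) S q.exact_subtype_ker_map z).1 hz

/-- The matrix of a comodule in a basis. -/
theorem exists_corep {ι : Type v} [Fintype ι] [DecidableEq ι] (c : HopfRep.Comod R A V) (b : Module.Basis ι R V) :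
    (∀ j, c.coact (b j) = ∑ i, b i ⊗ₜ[R] slL (b.coord i) (c.coact (b j))) ∧
    (∀ i j, Coalgebra.comul (R := R) (slL (b.coord i) (c.coact (b j))) =
      ∑ l, slL (b.coord i) (c.coact (b l)) ⊗ₜ[R] slL (b.coord l) (c.coact (b j))) ∧
    (∀ i j, Coalgebra.counit (R := R) (slL (b.coord i) (c.coact (b j))) = if i = j then 1 else 0) := by
  have hexp : ∀ j, c.coact (b j) = ∑ i, b i ⊗ₜ[R] slL (b.coord i) (c.coact (b j)) := by
    intro j
    generalize c.coact (b j) = y
    induction y with
    | zero => simp
    | add y z hy hz => simp only [map_add, TensorProduct.tmul_add, Finset.sum_add_distrib, ← hy, ← hz]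
    | tmul v x =>
      conv_lhs => rw [← b.sum_repr v]
      rw [TensorProduct.sum_tmul]
      exact Finset.sum_congr rfl fun l _ => by
        rw [slL_tmul, TensorProduct.smul_tmul, Module.Basis.coord_apply]
  refine ⟨hexp, fun i j => ?_, fun i j => ?_⟩
  · rw [comul_coeff]
    conv_lhs => rw [hexp j]
    simp only [map_sum, LinearMap.rTensor_tmul]
    refine Finset.sum_congr rfl fun l _ => ?_
    generalize slL (b.coord l) (c.coact (b j)) = t
    generalize c.coact (b l) = y
    induction y with
    | zero => simp
    | add y z hy hz => simp only [map_add, add_tmul, hy, hz]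
    | tmul p q => simp [TensorProduct.smul_tmul']
  · rw [counit_coeff]
    simp [Module.Basis.coord_apply, Finsupp.single_apply, eq_comm]

variable [IsDomain R] [IsPrincipalIdealRing R]

/-- A faithful corepresentation in which a given flat closed subgroup is cut out by the first column. -/
theorem exists_faithful [Algebra.FiniteType R A] (B : Type u) [CommRing B] [HopfAlgebra R B] [Module.Flat R B]
    (π : A →ₐc[R] B) :
    ∃ (d : ℕ) (hd : 0 < d) (a : Matrix (Fin d) (Fin d) A),
      (∀ i j, CoalgebraStruct.comul (R := R) (a i j) = ∑ l, a i l ⊗ₜ[R] a l j) ∧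
      (∀ i j, CoalgebraStruct.counit (R := R) (a i j) = if i = j then 1 else 0) ∧
      (∃ x : A, x * a.det = 1 ∧
        Algebra.adjoin R (Set.range (fun p : Fin d × Fin d => a p.1 p.2) ∪ {x}) = ⊤) ∧
      RingHom.ker π = Ideal.span (Set.range (fun i : {i : Fin d // i ≠ ⟨0, hd⟩} => a i.1 ⟨0, hd⟩)) := by
  classical
  haveI : IsNoetherianRing A := Algebra.FiniteType.isNoetherianRing R A
  obtain ⟨gI, hgI⟩ := IsNoetherian.noetherian (RingHom.ker π : Ideal A)
  obtain ⟨gA, hgA⟩ := Algebra.FiniteType.out (R := R) (A := A)
  obtain ⟨V₀, hV₀, hsub, hV₀c⟩ := exists_finite_subcomod (HopfRep.Comod.regular R A)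
    ((gI : Set A) ∪ gA) (gI.finite_toSet.union gA.finite_toSet)
  haveI : Module.Finite R V₀ := hV₀
  let c₀ : HopfRep.Comod R A V₀ := ComodSub.Comod.restr (HopfRep.Comod.regular R A) V₀ hV₀c
  have hc₀ : ∀ x : V₀, V₀.subtype.rTensor A (c₀.coact x) = Coalgebra.comul (R := R) (x : A) :=
    fun x => ComodSub.restr_coact_coe (HopfRep.Comod.regular R A) V₀ hV₀c x
  let q : V₀ →ₗ[R] B := (π : A →ₐ[R] B).toLinearMap ∘ₗ V₀.subtype
  haveI : Module.Free R (LinearMap.range q) := Module.free_of_finite_type_torsion_free' (R := R) (M := (LinearMap.range q))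
  obtain ⟨σ, hσ⟩ := Module.projective_lifting_property q.rangeRestrict LinearMap.id q.surjective_rangeRestrict
  have hP : ∀ x, x - σ (q.rangeRestrict x) ∈ LinearMap.ker q := by
    intro x
    have h := congrArg Subtype.val (LinearMap.congr_fun hσ (q.rangeRestrict x))
    rw [LinearMap.mem_ker, map_sub, sub_eq_zero]
    exact h.symm
  let P : V₀ →ₗ[R] LinearMap.ker q := (LinearMap.id - σ ∘ₗ q.rangeRestrict).codRestrict _ hP
  have hPid : ∀ x : LinearMap.ker q, P x.1 = x := by
    intro x
    apply Subtype.ext
    show x.1 - σ (q.rangeRestrict x.1) = x.1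
    rw [show q.rangeRestrict x.1 = 0 from Subtype.ext x.2, map_zero, sub_zero]
  haveI : Module.Finite R (LinearMap.ker q) := Module.Finite.of_injective (LinearMap.ker q).subtype Subtype.val_injective
  haveI : Module.Free R (LinearMap.ker q) := Module.free_of_finite_type_torsion_free' (R := R) (M := (LinearMap.ker q))
  let d₁ := Module.finrank R (LinearMap.ker q)
  let bW := Module.finBasis R (LinearMap.ker q)
  let φ : Fin d₁ → (V₀ →ₗ[R] R) := fun l => bW.coord l ∘ₗ P
  have hφ : ∀ l j, φ l (bW j).1 = if l = j then 1 else 0 := fun l j => by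
    simp [φ, hPid, Module.Basis.coord_apply, Finsupp.single_apply, eq_comm]
  let εV : V₀ →ₗ[R] R := Coalgebra.counit (R := R) ∘ₗ V₀.subtype
  have hεq : ∀ x : V₀, q x = 0 → εV x = 0 := by
    intro x hx
    show Coalgebra.counit (R := R) (x : A) = 0
    rw [← CoalgHomClass.counit_comp_apply π (x : A)]
    have : π (x : A) = 0 := hx
    rw [this, map_zero]
  let a₀ : (V₀ →ₗ[R] R) → Fin d₁ → A := fun ψ j => slL ψ (c₀.coact (bW j).1)
  let Φ : Option (Fin d₁) → Fin d₁ → (V₀ →ₗ[R] R) := fun o => o.elim φ (fun i => Function.update φ i εV)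
  let Mat : Option (Fin d₁) → Matrix (Fin d₁) (Fin d₁) A := fun o => Matrix.of fun l j => a₀ (Φ o l) j
  let m : Option (Fin d₁) → A := fun o => (Mat o).det
  have hεm : ∀ o, Coalgebra.counit (R := R) (m o) = if o = none then 1 else 0 := by
    intro o
    show Bialgebra.counitAlgHom R A (Mat o).det = _
    rw [AlgHom.map_det]
    rcases o with _ | i
    · rw [if_pos rfl]
      convert Matrix.det_one (n := Fin d₁) (R := R)
      ext l j
      simp [Mat, Φ, a₀, counit_coeff, hφ, Matrix.one_apply]
    · rw [if_neg (by simp)]
      refine Matrix.det_eq_zero_of_row_eq_zero i fun j => ?_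
      simp [Mat, Φ, a₀, counit_coeff, hεq _ (bW j).2]
  let cP : HopfRep.Comod R A (Option (Fin d₁) → A) :=
    ComodTens.Comod.pi (X := fun _ => A) fun _ => HopfRep.Comod.regular R A
  obtain ⟨M, hMf, hmM, hMc⟩ := exists_finite_subcomod cP {m} (Set.finite_singleton m)
  haveI : Module.Finite R M := hMf
  let cM : HopfRep.Comod R A M := ComodSub.Comod.restr cP M hMc
  let mM : M := ⟨m, hmM rfl⟩
  let f : M →ₗ[R] R := Coalgebra.counit (R := R) ∘ₗ LinearMap.proj none ∘ₗ M.subtype
  have hfm : f mM = 1 := by
    show Coalgebra.counit (R := R) (m none) = 1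
    rw [hεm, if_pos rfl]
  have hsplit : ∀ x, x - f x • mM ∈ LinearMap.ker f := fun x => by
    rw [LinearMap.mem_ker, map_sub, map_smul, hfm, smul_eq_mul, _root_.mul_one, sub_self]
  haveI : Module.Free R M := Module.free_of_finite_type_torsion_free' (R := R) (M := M)
  haveI : Module.Finite R (LinearMap.ker f) := Module.Finite.of_injective (LinearMap.ker f).subtype Subtype.val_injective
  haveI : Module.Free R (LinearMap.ker f) := Module.free_of_finite_type_torsion_free' (R := R) (M := (LinearMap.ker f))
  haveI : Module.Free R V₀ := Module.free_of_finite_type_torsion_free' (R := R) (M := V₀)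
  let e : M ≃ₗ[R] R × LinearMap.ker f :=
    { toLinearMap := f.prod ((LinearMap.id - LinearMap.toSpanSingleton R M mM ∘ₗ f).codRestrict _ hsplit)
      invFun := fun z => z.1 • mM + (z.2 : M)
      left_inv := fun x => by simp [LinearMap.toSpanSingleton_apply]
      right_inv := fun x => by
        have hx : f (x.2 : M) = 0 := x.2.2
        apply Prod.ext
        · simp [LinearMap.toSpanSingleton_apply, hfm, hx]
        · apply Subtype.ext
          simp [LinearMap.toSpanSingleton_apply, hfm, hx] }
  let bM : Module.Basis (Unit ⊕ Fin (Module.finrank R (LinearMap.ker f))) R M :=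
    ((Module.Basis.singleton Unit R).prod (Module.finBasis R (LinearMap.ker f))).map e.symm
  have hbM : bM (Sum.inl ()) = mM := by
    simp only [bM, Module.Basis.map_apply]
    show (((Module.Basis.singleton Unit R).prod (Module.finBasis R (LinearMap.ker f))) (Sum.inl ())).1 • mM +
      ((((Module.Basis.singleton Unit R).prod (Module.finBasis R (LinearMap.ker f))) (Sum.inl ())).2 : M) = mM
    simp
  let b := bM.prod (Module.finBasis R V₀)
  let cT : HopfRep.Comod R A (M × V₀) := ComodTens.Comod.prod cM c₀
  obtain ⟨hexp, hcomul, hcounit⟩ := exists_corep cT b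
  let i₀ : (Unit ⊕ Fin (Module.finrank R (LinearMap.ker f))) ⊕ Fin (Module.finrank R V₀) := Sum.inl (Sum.inl ())
  let aT : Matrix _ _ A := Matrix.of fun i j => slL (b.coord i) (cT.coact (b j))
  have hb₀ : b i₀ = (mM, 0) := by
    apply Prod.ext
    · simp [b, i₀, hbM]
    · simp [b, i₀]
  have hb₀c : cT.coact (b i₀) = (LinearMap.inl R M V₀).rTensor A (cM.coact mM) := by
    rw [hb₀, ComodTens.prod_coact, map_zero, map_zero, add_zero]
  -- components of the translate of the distinguished vector
  have hproj : ∀ (S : Type u) [CommRing S] [Algebra R S] (g : A →ₐ[R] S) (o : Option (Fin d₁)),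
      ((LinearMap.proj o : (Option (Fin d₁) → A) →ₗ[R] A) ∘ₗ M.subtype).rTensor S
        (g.toLinearMap.lTensor M (cM.coact mM)) = transl g (m o) := by
    intro S _ _ g o
    rw [LinearMap.rTensor_comp, LinearMap.comp_apply, ← LinearMap.comp_apply (LinearMap.rTensor S M.subtype),
      LinearMap.rTensor_comp_lTensor, ← LinearMap.lTensor_comp_rTensor, LinearMap.comp_apply,
      ComodSub.restr_coact_coe cP M hMc mM, ComodTens.pi_coact, map_sum, map_sum, Finset.sum_eq_single o,
      transl_apply]
    · show _ = g.toLinearMap.lTensor A ((HopfRep.Comod.regular R A).coact (m o))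
      generalize (HopfRep.Comod.regular R A).coact (m o) = y
      induction y with
      | zero => simp
      | add y z hy hz => simp only [map_add, hy, hz]
      | tmul p q => simp
    · intro o' _ ho'
      generalize (HopfRep.Comod.regular R A).coact (mM.1 o') = y
      induction y with
      | zero => simp
      | add y z hy hz => simp only [map_add, hy, hz, add_zero]
      | tmul p q => simp [Pi.single_eq_of_ne ho'.symm]
    · exact fun h => absurd (Finset.mem_univ o) h
  let J : Ideal A := Ideal.span (Set.range fun i : {i // i ≠ i₀} => aT i.1 i₀)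
  have hIJ : RingHom.ker π = J := by
    apply le_antisymm
    · let g := Ideal.Quotient.mkₐ R J
      have hc : ∀ o, transl g (m o) = m o ⊗ₜ[R] g (aT i₀ i₀) := by
        intro o
        have h1 : g.toLinearMap.lTensor M (cM.coact mM) = mM ⊗ₜ[R] g (aT i₀ i₀) := by
          have h2 := congrArg (fun z => (LinearMap.fst R M V₀).rTensor (A ⧸ J) (g.toLinearMap.lTensor (M × V₀) z))
            (hexp i₀)
          simp only [map_sum, LinearMap.lTensor_tmul, LinearMap.rTensor_tmul] at h2
          rw [Finset.sum_eq_single i₀] at h2
          · rw [hb₀c] at h2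
            rw [show ((LinearMap.fst R M V₀) (b i₀)) = mM by rw [hb₀]; rfl] at h2
            refine Eq.trans ?_ (h2.trans ?_)
            · generalize cM.coact mM = y
              induction y with
              | zero => simp
              | add y z hy hz => simp only [map_add, ← hy, ← hz]
              | tmul p r => simp
            · show mM ⊗ₜ[R] g (slL (b.coord i₀) _) = mM ⊗ₜ[R] g (slL (b.coord i₀) (cT.coact (b i₀)))
              rw [hb₀c]
          · intro i _ hi
            have h0 : g.toLinearMap (slL (b.coord i) (cT.coact (b i₀))) = 0 :=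
              Ideal.Quotient.eq_zero_iff_mem.2 (Ideal.subset_span ⟨⟨i, hi⟩, rfl⟩)
            rw [h0, TensorProduct.tmul_zero]
          · exact fun h => absurd (Finset.mem_univ i₀) h
        rw [← hproj _ g o, h1, LinearMap.rTensor_tmul]
        rfl
      have hgm : ∀ o, g (m o) = if o = none then g (aT i₀ i₀) else 0 := by
        intro o
        have := congrArg (slL (Coalgebra.counit (R := R))) (hc o)
        rw [slL_counit_transl, slL_tmul, hεm o] at this
        rw [this]
        split_ifs <;> simp
      let N : Matrix (Fin d₁) (Fin d₁) (A ⧸ J) := Matrix.of fun l j => g (a₀ (φ l) j)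
      have hN : N.det = g (aT i₀ i₀) := by
        have := hgm none
        rw [if_pos rfl, show m none = (Mat none).det from rfl, AlgHom.map_det] at this
        exact this
      have hu : g (HopfAlgebraStruct.antipode R (m none)) * g (aT i₀ i₀) = 1 := by
        have h1 := congrArg (TensorProduct.lift ((LinearMap.mul R (A ⧸ J)).comp
          (g.toLinearMap ∘ₗ HopfAlgebraStruct.antipode R))) (hc none)
        simp only [TensorProduct.lift.tmul, LinearMap.comp_apply, LinearMap.mul_apply', AlgHom.toLinearMap_apply] at h1
        have h2 : ∀ y : A ⊗[R] A, TensorProduct.lift ((LinearMap.mul R (A ⧸ J)).comp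
            (g.toLinearMap ∘ₗ HopfAlgebraStruct.antipode R)) (g.toLinearMap.lTensor A y) =
            g (LinearMap.mul' R A ((HopfAlgebraStruct.antipode R).rTensor A y)) := by
          intro y
          induction y with
          | zero => simp
          | add y z hy hz => simp only [map_add, hy, hz]
          | tmul p r => simp
        rw [transl_apply, h2, HopfAlgebra.mul_antipode_rTensor_comul_apply, AlgHom.commutes, hεm none, if_pos rfl,
          map_one] at h1
        exact h1.symm
      let r : Fin d₁ → A ⧸ J := fun j => g (a₀ εV j)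
      have h0 : ∀ i, (N.updateRow i r).det = 0 := by
        intro i
        have := hgm (some i)
        rw [if_neg (by simp), show m (some i) = (Mat (some i)).det from rfl, AlgHom.map_det] at this
        rw [← this]
        congr 1
        ext l j
        by_cases hl : l = i
        · subst hl; simp [Mat, Φ, r]
        · simp [Mat, Φ, N, Matrix.updateRow_ne hl, Function.update_of_ne hl]
      have h1 : N.transpose.adjugate.mulVec r = 0 := by
        funext i
        rw [← Matrix.cramer_eq_adjugate_mulVec, Matrix.cramer_transpose_apply]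
        exact h0 i
      have h2 : N.transpose.det • r = 0 := by
        rw [← Matrix.one_mulVec r, ← Matrix.smul_mulVec, ← Matrix.mul_adjugate, ← Matrix.mulVec_mulVec, h1,
          Matrix.mulVec_zero]
      have hw : ∀ j, g ((bW j).1 : A) = 0 := by
        intro j
        have h3 := congrFun h2 j
        rw [Matrix.det_transpose, hN, Pi.smul_apply, smul_eq_mul, Pi.zero_apply] at h3
        have h4 : r j = 0 := by
          have := congrArg (g (HopfAlgebraStruct.antipode R (m none)) * ·) h3
          simpa [← mul_assoc, hu] using this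
        have h5 : a₀ εV j = ((bW j).1 : A) := by
          show slL (Coalgebra.counit (R := R) ∘ₗ V₀.subtype) (c₀.coact (bW j).1) = _
          rw [← slL_rTensor, hc₀]
          simp [slL]
        rw [← h5]; exact h4
      rw [← hgI, Ideal.span_le]
      intro x hx
      have hxq : (⟨x, hsub (Or.inl hx)⟩ : V₀) ∈ LinearMap.ker q := by
        have : x ∈ RingHom.ker π := hgI ▸ Ideal.subset_span hx
        exact this
      have hsum := congrArg (fun z : LinearMap.ker q => g ((z.1 : A))) (bW.sum_repr ⟨_, hxq⟩)
      simp only [Submodule.coe_sum, Submodule.coe_smul, map_sum, map_smul, hw, smul_zero,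
        Finset.sum_const_zero] at hsum
      exact Ideal.Quotient.eq_zero_iff_mem.1 hsum.symm
    · refine Ideal.span_le.2 ?_
      rintro _ ⟨⟨i, hi⟩, rfl⟩
      let g : A →ₐ[R] B := (π : A →ₐ[R] B)
      -- expansion of the translates of the `bW j`
      have hx : ∀ j, g.toLinearMap.lTensor V₀ (c₀.coact (bW j).1) =
          ∑ l, (bW l).1 ⊗ₜ[R] g (a₀ (φ l) j) := by
        intro j
        have hq : q.rTensor B (g.toLinearMap.lTensor V₀ (c₀.coact (bW j).1)) = 0 := by
          have hΔ : TensorProduct.map g.toLinearMap g.toLinearMap (Coalgebra.comul (R := R) ((bW j).1 : A)) = 0 := by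
            have h := CoalgHomClass.map_comp_comul_apply π ((bW j).1 : A)
            have hz : π ((bW j).1 : A) = 0 := (bW j).2
            rw [hz, map_zero] at h
            exact h
          rw [← hc₀] at hΔ
          rw [← hΔ]
          generalize c₀.coact (bW j).1 = y
          induction y with
          | zero => simp
          | add y z hy hz => simp only [map_add, hy, hz]
          | tmul p r => simp [q, g]
        obtain ⟨z, hz⟩ := exists_rTensor_ker (R := R) q _ hq
        have hgen : ∀ z : (LinearMap.ker q) ⊗[R] B, (LinearMap.ker q).subtype.rTensor B z =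
            ∑ l, (bW l).1 ⊗ₜ[R] slL (φ l) ((LinearMap.ker q).subtype.rTensor B z) := by
          intro z
          induction z with
          | zero => simp
          | add y z hy hz => simp only [map_add, tmul_add, Finset.sum_add_distrib, ← hy, ← hz]
          | tmul x r =>
            simp only [LinearMap.rTensor_tmul, Submodule.coe_subtype, slL_tmul]
            conv_lhs => rw [← bW.sum_repr x]
            simp only [Submodule.coe_sum, Submodule.coe_smul, TensorProduct.sum_tmul]
            refine Finset.sum_congr rfl fun l _ => ?_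
            rw [TensorProduct.smul_tmul]
            simp [φ, hPid, Module.Basis.coord_apply]
        rw [← hz, hgen z]
        refine Finset.sum_congr rfl fun l _ => ?_
        rw [hz, slL_lTensor]
        rfl
      let G : Matrix (Fin d₁) (Fin d₁) B := Matrix.of fun l j => g (a₀ (φ l) j)
      have ht : ∀ o, transl g (m o) = m o ⊗ₜ[R] G.det := by
        intro o
        show transl g (Mat o).det = _
        have hmat : (transl g).mapMatrix (Mat o) =
            ((Algebra.TensorProduct.includeLeft : A →ₐ[R] A ⊗[R] B).mapMatrix (Mat o)) *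
              ((Algebra.TensorProduct.includeRight : B →ₐ[R] A ⊗[R] B).mapMatrix G) := by
          ext l j
          simp only [AlgHom.mapMatrix_apply, Matrix.map_apply, Matrix.mul_apply, Mat, G, Matrix.of_apply,
            Algebra.TensorProduct.includeLeft_apply, Algebra.TensorProduct.includeRight_apply,
            Algebra.TensorProduct.tmul_mul_tmul, _root_.mul_one, _root_.one_mul]
          show transl g (slL (Φ o l) (c₀.coact (bW j).1)) = _
          rw [transl_coeff, hx j, map_sum]
          rfl
        rw [AlgHom.map_det, hmat, Matrix.det_mul, ← AlgHom.map_det, ← AlgHom.map_det]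
        simp [m]
      have hM : g.toLinearMap.lTensor M (cM.coact mM) = mM ⊗ₜ[R] G.det := by
        apply Module.Flat.rTensor_preserves_injective_linearMap (M := B) M.subtype M.injective_subtype
        apply (TensorProduct.piLeft (R := R) (N := B) (M := fun _ : Option (Fin d₁) => A)).injective
        funext o
        have hpl : ∀ z, TensorProduct.piLeft (R := R) (N := B) (M := fun _ : Option (Fin d₁) => A) z o =
            (LinearMap.proj o : (Option (Fin d₁) → A) →ₗ[R] A).rTensor B z := by
          intro z
          induction z with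
          | zero => simp
          | add y z hy hz => simp only [map_add, Pi.add_apply, hy, hz]
          | tmul p r => simp
        rw [hpl, hpl, ← LinearMap.comp_apply, ← LinearMap.rTensor_comp, hproj, ← LinearMap.comp_apply,
          ← LinearMap.rTensor_comp, LinearMap.rTensor_tmul, ht]
        rfl
      show slL (b.coord i) (cT.coact (b i₀)) ∈ RingHom.ker π
      show g (slL (b.coord i) (cT.coact (b i₀))) = 0
      have e1 : slL (b.coord i) (g.toLinearMap.lTensor (M × V₀) (cT.coact (b i₀))) =
          g (slL (b.coord i) (cT.coact (b i₀))) := slL_lTensor _ _ _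
      rw [← e1, hb₀c, ← LinearMap.comp_apply (LinearMap.lTensor (M × V₀) g.toLinearMap),
        LinearMap.lTensor_comp_rTensor, ← LinearMap.rTensor_comp_lTensor, LinearMap.comp_apply, hM,
        LinearMap.rTensor_tmul, slL_tmul, LinearMap.inl_apply, ← hb₀]
      simp [Module.Basis.coord_apply, Finsupp.single_apply, Ne.symm hi]
  -- reindexing
  let d := Fintype.card ((Unit ⊕ Fin (Module.finrank R (LinearMap.ker f))) ⊕ Fin (Module.finrank R V₀))
  have hd : 0 < d := Fintype.card_pos_iff.2 ⟨i₀⟩
  let eι : Fin d ≃ _ := ((Fintype.equivFin _).trans (Equiv.swap (Fintype.equivFin _ i₀) ⟨0, hd⟩)).symm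
  have he0 : eι ⟨0, hd⟩ = i₀ := by simp [eι, Equiv.symm_apply_eq]
  refine ⟨d, hd, Matrix.of fun i j => aT (eι i) (eι j), fun i j => ?_, fun i j => ?_,
    ⟨HopfAlgebraStruct.antipode R (Matrix.of fun i j => aT (eι i) (eι j)).det, ?_, ?_⟩, ?_⟩
  · simp only [aT, Matrix.of_apply]
    rw [hcomul]
    exact (Equiv.sum_comp eι (fun l => slL (b.coord (eι i)) (cT.coact (b l)) ⊗ₜ[R]
      slL (b.coord l) (cT.coact (b (eι j))))).symm
  · simp only [aT, Matrix.of_apply]
    rw [hcounit]
    simp [eι.injective.eq_iff]
  · set N := Matrix.of fun i j => aT (eι i) (eι j) with hN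
    have hmul : (HopfAlgebra.antipodeAlgHom R A).mapMatrix N * N = 1 := by
      ext i j
      have h := HopfAlgebra.mul_antipode_rTensor_comul_apply (R := R) (N i j)
      have hc : Coalgebra.comul (R := R) (N i j) = ∑ l, N i l ⊗ₜ[R] N l j := by
        simp only [hN, aT, Matrix.of_apply]
        rw [hcomul]
        exact (Equiv.sum_comp eι (fun l => slL (b.coord (eι i)) (cT.coact (b l)) ⊗ₜ[R]
          slL (b.coord l) (cT.coact (b (eι j))))).symm
      rw [hc] at h
      simp only [map_sum, LinearMap.rTensor_tmul, LinearMap.mul'_apply] at h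
      rw [Matrix.mul_apply]
      refine Eq.trans h ?_
      rw [show Coalgebra.counit (R := R) (N i j) = if i = j then 1 else 0 by
        simp only [hN, aT, Matrix.of_apply]; rw [hcounit]; simp [eι.injective.eq_iff], Matrix.one_apply]
      split_ifs <;> simp
    have := congrArg Matrix.det hmul
    rwa [Matrix.det_mul, Matrix.det_one, ← AlgHom.map_det] at this
  · rw [eq_top_iff, ← hgA, Algebra.adjoin_le_iff]
    intro x hx
    let xV : V₀ := ⟨x, hsub (Or.inr hx)⟩
    let ψ : M × V₀ →ₗ[R] R := εV ∘ₗ LinearMap.snd R M V₀
    have hxe : slL ψ (cT.coact (0, xV)) = x := by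
      rw [ComodTens.prod_coact, map_zero, map_zero, zero_add, slL_rTensor, LinearMap.comp_assoc,
        show LinearMap.snd R M V₀ ∘ₗ LinearMap.inr R M V₀ = LinearMap.id from LinearMap.snd_comp_inr .., LinearMap.comp_id]
      show slL (Coalgebra.counit (R := R) ∘ₗ V₀.subtype) (c₀.coact xV) = x
      rw [← slL_rTensor, hc₀]
      simp [slL, xV]
    show x ∈ Algebra.adjoin R _
    rw [← hxe, ← b.sum_repr (0, xV), map_sum, map_sum]
    refine Subalgebra.sum_mem _ fun l _ => ?_
    rw [map_smul, map_smul]
    refine Subalgebra.smul_mem _ ?_ _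
    rw [hexp l, map_sum]
    refine Subalgebra.sum_mem _ fun i _ => ?_
    rw [slL_tmul]
    refine Subalgebra.smul_mem _ (Algebra.subset_adjoin ?_) _
    exact Or.inl ⟨(eι.symm i, eι.symm l), by simp [aT]⟩
  · rw [hIJ]
    show Ideal.span _ = Ideal.span _
    congr 1
    ext x
    simp only [Set.mem_range, Subtype.exists, Matrix.of_apply, he0]
    constructor
    · rintro ⟨i, hi, rfl⟩
      exact ⟨eι.symm i, fun h => hi (by rw [← he0, ← h, Equiv.apply_symm_apply]), by rw [Equiv.apply_symm_apply]⟩
    · rintro ⟨i, hi, rfl⟩
      exact ⟨eι i, fun h => hi (eι.injective (h.trans he0.symm)), rfl⟩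

end Groth.Agent.DvrCorep
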